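import Groth.Agent.Lib.FEtEq25.DepthTwo
import Mathlib.RingTheory.Ideal.AssociatedPrime.Localization
import Mathlib.AlgebraicGeometry.Morphisms.Flat

/-!
# Extending morphisms into relatively affine schemes from a big open
-/

universe u

open CategoryTheory AlgebraicGeometry TopologicalSpace Opposite IsLocalRing

noncomputable section

namespace Groth.Agent.SchExt28

/-- In a Noetherian ring, an element is nonzero at some associated prime. -/
theorem exists_ass {A : Type*} [CommRing A] [IsNoetherianRing A] {x : A} (hx : x ≠ 0) :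
    ∃ q ∈ associatedPrimes A A, ∀ t : A, t * x = 0 → t ∈ q := by
  let N : Submodule A A := Submodule.span A {x}
  haveI : Nontrivial N := ⟨⟨⟨x, Submodule.mem_span_singleton_self x⟩, 0, fun h => hx (congrArg Subtype.val h)⟩⟩
  obtain ⟨q, hq⟩ := associatedPrimes.nonempty A N
  refine ⟨q, associatedPrimes.subset_of_injective (f := N.subtype) Subtype.val_injective hq, fun t ht => ?_⟩
  obtain ⟨hqp, y, hy⟩ := hq
  have h0 : t • y = 0 := by
    obtain ⟨c, hc⟩ := Submodule.mem_span_singleton.mp y.2
    exact Subtype.ext (by rw [Submodule.coe_smul, ← hc, smul_eq_mul, smul_eq_mul, mul_left_comm, ht, mul_zero, ZeroMemClass.coe_zero])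
  rw [hy]
  exact Ideal.le_radical (Submodule.mem_colon_singleton.mpr (by rw [h0]; exact zero_mem _))

/-- The associated points of a scheme flat over `S` map to associated points. -/
theorem maximalIdeal_mem_ass_of_flat {A B : Type*} [CommRing A] [IsNoetherianRing A] [IsLocalRing A]
    [CommRing B] [IsLocalRing B] (f : A →+* B) [IsLocalHom f] (hf : f.Flat)
    (h : maximalIdeal B ∈ associatedPrimes B B) : maximalIdeal A ∈ associatedPrimes A A := by
  classical
  by_contra hA
  have hfin := associatedPrimes.finite A A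
  have hsub : ¬ ((maximalIdeal A : Set A) ⊆ ⋃ p ∈ associatedPrimes A A, (p : Set A)) := by
    intro hsub
    obtain ⟨p, hp, hle⟩ := (Ideal.subset_union_prime (s := hfin.toFinset) (f := id) ⊥ ⊥
      (fun p hp _ _ => (hfin.mem_toFinset.mp hp).1)).mp (by simpa using hsub)
    have hp' := hfin.mem_toFinset.mp hp
    exact hA (((maximalIdeal.isMaximal A).eq_of_le hp'.1.ne_top hle).symm ▸ hp')
  obtain ⟨a, ha, hna⟩ := Set.not_subset.mp hsub
  rw [biUnion_associatedPrimes_eq_zero_divisors A] at hna
  have hreg : IsSMulRegular A a := isSMulRegular_iff_right_eq_zero_of_smul.mpr fun x hx => by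
    by_contra hx0
    exact hna ⟨x, hx0, hx⟩
  letI := f.toAlgebra
  haveI : Module.Flat A B := hf
  have hregB : IsSMulRegular B (f a) := by
    have := hreg.lTensor B
    intro x y hxy
    have h2 := (IsSMulRegular.of_flat (S := B) hreg)
    exact h2 hxy
  have hm : f a ∈ maximalIdeal B := fun hu => ha ((isUnit_map_iff f a).mp hu)
  obtain ⟨hp, y, hy⟩ := h
  rw [hy] at hm
  obtain ⟨m, hm⟩ := hm
  rw [Submodule.mem_colon_singleton, Submodule.mem_bot, smul_eq_mul] at hm
  have hy0 : y = 0 := (IsSMulRegular.pow m hregB) (show f a ^ m • y = f a ^ m • (0 : B) by rw [smul_eq_mul, hm, smul_zero])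
  refine hp.ne_top ?_
  rw [hy, hy0]
  simp

variable {Z : Scheme.{u}} [IsLocallyNoetherian Z]

/-- A section vanishing near every associated point is zero. -/
theorem injective_restrict (U : Z.Opens)
    (h : ∀ z : Z, maximalIdeal (Z.presheaf.stalk z) ∈ associatedPrimes (Z.presheaf.stalk z) (Z.presheaf.stalk z) → z ∈ U)
    (V : Z.Opens) : Function.Injective (Z.presheaf.map (homOfLE (inf_le_left : V ⊓ U ≤ V)).op) := by
  rw [injective_iff_map_eq_zero]
  intro s hs
  refine TopCat.Presheaf.section_ext Z.sheaf V s 0 fun x hx => ?_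
  rw [map_zero]
  obtain ⟨W, hW, hxW, hWV⟩ := exists_isAffineOpen_mem_and_subset hx
  haveI := IsLocallyNoetherian.component_noetherian ⟨W, hW⟩
  set s' := Z.presheaf.map (homOfLE hWV).op s with hs'
  suffices hz : s' = 0 by
    show Z.presheaf.germ V x hx s = 0
    rw [← Z.presheaf.germ_res_apply (homOfLE hWV) x hxW s]
    show Z.presheaf.germ W x hxW s' = 0
    rw [hz, map_zero]
  by_contra hne
  obtain ⟨q, hq, hqt⟩ := exists_ass hne
  let y : PrimeSpectrum Γ(Z, W) := ⟨q, hq.1⟩
  haveI : y.asIdeal.IsPrime := hq.1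
  have hyW : hW.fromSpec y ∈ W := by
    have : hW.fromSpec y ∈ Set.range hW.fromSpec := Set.mem_range_self y
    rwa [hW.range_fromSpec] at this
  letI := TopCat.Presheaf.algebra_section_stalk Z.presheaf (⟨hW.fromSpec y, hyW⟩ : W)
  haveI hloc : IsLocalization.AtPrime (Z.presheaf.stalk (hW.fromSpec y)) y.asIdeal := hW.isLocalization_stalk' y hyW
  have hass : maximalIdeal (Z.presheaf.stalk (hW.fromSpec y)) ∈
      associatedPrimes (Z.presheaf.stalk (hW.fromSpec y)) (Z.presheaf.stalk (hW.fromSpec y)) :=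
    Module.associatedPrimes.mem_associatedPrimes_of_comap_mem_associatedPrimes_of_isLocalizedModule y.asIdeal.primeCompl
      (Algebra.linearMap Γ(Z, W) (Z.presheaf.stalk (hW.fromSpec y))) _
      (Eq.mpr (congrArg (· ∈ associatedPrimes Γ(Z, W) Γ(Z, W)) (IsLocalization.AtPrime.comap_maximalIdeal (Z.presheaf.stalk (hW.fromSpec y)) y.asIdeal)) hq)
  have hyU := h _ hass
  have hger : Z.presheaf.germ W _ hyW s' = 0 := by
    refine (Z.presheaf.germ_res_apply _ _ _ _).trans ?_
    refine (Z.presheaf.germ_res_apply (homOfLE (inf_le_left : V ⊓ U ≤ V)) (hW.fromSpec y) ⟨hWV hyW, hyU⟩ s).symm.trans ?_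
    exact (congrArg _ hs).trans (map_zero _)
  obtain ⟨⟨t, ht⟩, hts⟩ := (IsLocalization.map_eq_zero_iff y.asIdeal.primeCompl (Z.presheaf.stalk (hW.fromSpec y)) s').mp hger
  exact ht (hqt t hts)

/-- Two morphisms into an affine scheme agreeing on `U` are equal, given injectivity of restriction. -/
theorem hom_ext_affine {X W Y : Scheme.{u}} [IsAffine Y] (j : W ⟶ X) (hj : Function.Injective j.appTop)
    (a b : X ⟶ Y) (h : j ≫ a = j ≫ b) : a = b := by
  refine ext_of_isAffine (CommRingCat.hom_ext (RingHom.ext fun t => hj ?_))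
  have := congrArg (fun φ : W ⟶ Y => φ.appTop t) h
  simpa only [Scheme.Hom.comp_appTop, CommRingCat.comp_apply] using this

/-- Morphisms into affine schemes extend along `j` when global sections do. -/
theorem exists_extend_affine {X W Y : Scheme.{u}} [IsAffine Y] (j : W ⟶ X) (hj : Function.Bijective j.appTop)
    (b : W ⟶ Y) : ∃ a : X ⟶ Y, j ≫ a = b := by
  haveI : IsIso j.appTop := (ConcreteCategory.isIso_iff_bijective _).mpr hj
  let g : Γ(Y, ⊤) ⟶ Γ(X, ⊤) := b.appTop ≫ inv j.appTop
  refine ⟨X.toSpecΓ ≫ Spec.map g ≫ Y.isoSpec.inv, ?_⟩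
  have h : g ≫ j.appTop = b.appTop := by simp [g]
  rw [← cancel_mono Y.isoSpec.hom]
  simp only [Category.assoc, Iso.inv_hom_id, Category.comp_id]
  rw [Scheme.toSpecΓ_naturality_assoc, ← Spec.map_comp, h]
  exact (Scheme.toSpecΓ_naturality b).symm

end Groth.Agent.SchExt28
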